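import Cfsg.Agent.Chevalley.Weights.Count

/-!
A module of a `p`-group in characteristic `p` in which every fixed vector is a trace is free: its
dimension is divisible by the order of the group.
-/

set_option autoImplicit false
set_option linter.unusedSectionVars false
set_option linter.style.haveILetI false

namespace Cfsg.Agent.H83.DefChar

open Module

variable {p : ℕ} [hp : Fact p.Prime] {k : Type*} [Field k] [CharP k p] {P : Type*} [Group P]
  [Fintype P]

/-- Left translation of functions. -/
def shift (r : ℕ) : P →* Module.End k (Fin r → P → k) where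
  toFun a :=
    { toFun := fun c i g => c i (g * a)
      map_add' := fun c d => rfl
      map_smul' := fun t c => rfl }
  map_one' := by ext c i g; simp
  map_mul' a b := by ext c i g; simp [mul_assoc]

/-- Divisibility of the dimension. -/
theorem card_dvd_finrank (hP : IsPGroup p P) {V : Type*} [AddCommGroup V] [Module k V]
    [FiniteDimensional k V] (ρ : P →* Module.End k V)
    (htr : ∀ v, (∀ a, ρ a v = v) → ∃ w, v = ∑ a, ρ a w) :
    Nat.card P ∣ finrank k V := by
  classical
  let X : Submodule k V :=
    { carrier := {v | ∀ a, ρ a v = v}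
      add_mem' := fun hv hw a => by rw [map_add, hv a, hw a]
      zero_mem' := fun a => map_zero _
      smul_mem' := fun t v hv a => by rw [map_smul, hv a] }
  have hX : ∀ v, v ∈ X ↔ ∀ a, ρ a v = v := fun _ => Iff.rfl
  set r := finrank k X
  let b : Basis (Fin r) k X := Module.finBasis k X
  choose w hw using fun i => htr (b i : V) ((hX _).1 (b i).2)
  have hp' : IsPGroup p (⊤ : Subgroup P) := hP.to_subgroup ⊤
  let Φ : (Fin r → P → k) →ₗ[k] V :=
    { toFun := fun c => ∑ i, ∑ g, c i g • ρ g⁻¹ (w i)
      map_add' := fun c d => by simp [add_smul, Finset.sum_add_distrib]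
      map_smul' := fun t c => by simp [mul_smul, Finset.smul_sum] }
  have hequiv : ∀ a c, Φ (shift r a c) = ρ a (Φ c) := fun a c => by
    show ∑ i, ∑ g, c i (g * a) • ρ g⁻¹ (w i) = ρ a (∑ i, ∑ g, c i g • ρ g⁻¹ (w i))
    simp only [map_sum, map_smul]
    refine Finset.sum_congr rfl fun i _ => Fintype.sum_equiv (Equiv.mulRight a) _ _ fun g => ?_
    rw [← Module.End.mul_apply, ← map_mul, Equiv.coe_mulRight, mul_inv_rev, mul_inv_cancel_left]
  have hΦ : Function.Injective Φ := by
    rw [← LinearMap.ker_eq_bot]
    by_contra hne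
    haveI : Nontrivial (LinearMap.ker Φ) := Submodule.nontrivial_iff_ne_bot.2 hne
    have hst : ∀ a c, c ∈ LinearMap.ker Φ → shift r a c ∈ LinearMap.ker Φ := fun a c hc => by
      rw [LinearMap.mem_ker] at hc ⊢
      rw [hequiv, hc, map_zero]
    obtain ⟨c, hc0, hfix⟩ := Chevalley.Weights.exists_fixed (p := p)
      ({ toFun := fun a => (shift r a).restrict (hst a)
         map_one' := by
           refine LinearMap.ext fun c => Subtype.ext ?_
           show shift r 1 c.1 = c.1
           rw [map_one]; rfl
         map_mul' := fun a a' => by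
           refine LinearMap.ext fun c => Subtype.ext ?_
           show shift r (a * a') c.1 = shift r a (shift r a' c.1)
           rw [map_mul]; rfl } : P →* Module.End k (LinearMap.ker Φ)) ⊤ hp'
    have hconst : ∀ i g, c.1 i g = c.1 i 1 := fun i g => by
      have h := congrArg (fun d : LinearMap.ker Φ => d.1 i 1) (hfix g (Subgroup.mem_top g))
      have h' : c.1 i (1 * g) = c.1 i 1 := h
      rwa [one_mul] at h'
    have h0 : ∑ i, c.1 i 1 • (b i : V) = 0 := by
      have h1 : Φ c.1 = 0 := c.2
      have h2 : ∑ i, ∑ g, c.1 i g • ρ g⁻¹ (w i) = 0 := h1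
      rw [← h2]
      refine Finset.sum_congr rfl fun i _ => ?_
      rw [hw i, Finset.smul_sum]
      exact Fintype.sum_equiv (Equiv.inv P) _ _ fun g => by
        rw [Equiv.inv_apply, inv_inv, hconst i g⁻¹]
    have h3 : ∑ i, c.1 i 1 • b i = 0 := Subtype.ext (by simpa using h0)
    refine hc0 (Subtype.ext (funext fun i => funext fun g => ?_))
    rw [hconst]
    exact Fintype.linearIndependent_iff.1 b.linearIndependent _ h3 i
  obtain ⟨π, hπ⟩ := X.subtype.exists_leftInverse_of_injective
    (LinearMap.ker_eq_bot.2 X.injective_subtype)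
  let Ψ : V →ₗ[k] (Fin r → P → k) :=
    { toFun := fun v i g => b.repr (π (ρ g v)) i
      map_add' := fun u v => by ext; simp
      map_smul' := fun t v => by ext; simp }
  have hΨ : Function.Injective Ψ := by
    rw [← LinearMap.ker_eq_bot]
    by_contra hne
    haveI : Nontrivial (LinearMap.ker Ψ) := Submodule.nontrivial_iff_ne_bot.2 hne
    have hst : ∀ a v, v ∈ LinearMap.ker Ψ → ρ a v ∈ LinearMap.ker Ψ := fun a v hv => by
      rw [LinearMap.mem_ker] at hv ⊢
      ext i g
      show b.repr (π (ρ g (ρ a v))) i = 0
      rw [← Module.End.mul_apply, ← map_mul]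
      exact congrFun (congrFun hv i) (g * a)
    obtain ⟨v, hv0, hfix⟩ := Chevalley.Weights.exists_fixed (p := p)
      ({ toFun := fun a => (ρ a).restrict (hst a)
         map_one' := by
           refine LinearMap.ext fun c => Subtype.ext ?_
           show ρ 1 c.1 = c.1
           rw [map_one]; rfl
         map_mul' := fun a a' => by
           refine LinearMap.ext fun c => Subtype.ext ?_
           show ρ (a * a') c.1 = ρ a (ρ a' c.1)
           rw [map_mul]; rfl } : P →* Module.End k (LinearMap.ker Ψ)) ⊤ hp'
    have hvX : v.1 ∈ X := fun a => congrArg Subtype.val (hfix a (Subgroup.mem_top a))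
    have h1 : ∀ i, b.repr (π v.1) i = 0 := fun i => by
      have := congrFun (congrFun (show Ψ v.1 = 0 from v.2) i) 1
      change b.repr (π (ρ 1 v.1)) i = 0 at this
      simpa using this
    have h2 : π v.1 = ⟨v.1, hvX⟩ := LinearMap.congr_fun hπ ⟨v.1, hvX⟩
    refine hv0 (Subtype.ext (?_ : (v : V) = 0))
    have h3 : π v.1 = 0 := b.repr.injective (by rw [map_zero]; exact Finsupp.ext h1)
    exact congrArg (fun x : X => (x : V)) (h2.symm.trans h3)
  have h1 := LinearMap.finrank_le_finrank_of_injective hΦ
  have h2 := LinearMap.finrank_le_finrank_of_injective hΨ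
  have h3 : finrank k (Fin r → P → k) = r * Nat.card P := by
    rw [Module.finrank_pi_fintype]
    simp [Nat.card_eq_fintype_card]
  rw [h3] at h1 h2
  exact ⟨r, by rw [Nat.mul_comm]; omega⟩

end Cfsg.Agent.H83.DefChar
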