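import Cfsg.Agent.H83.DefChar.Centraliser
import Cfsg.Agent.H83.DefChar.FreeModule

/-!
Hecke operators on the `U`-fixed vectors of a module in characteristic `p` of a simple group with a
split Tits system in characteristic `p`: either all of them are injective, and then the module is
free over `U`, or some fixed vector is an eigenvector of the class sums with the eigenvalues of the
trivial module.
-/

set_option autoImplicit false
set_option linter.unusedSectionVars false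
set_option linter.style.haveILetI false

namespace Cfsg.Agent.H83.DefChar

open Cfsg.Agent.H28 Cfsg.Agent.H54.BNC
open Cfsg.Agent.H37 (Tits.Ambient)
open Cfsg.Agent.H13.Split
open Module

attribute [local instance] Fintype.ofFinite

variable {G W : Type*} [Group G] [Group W] {A : Tits.Ambient G W} {p : ℕ}
  [Finite G] [Finite W] {k : Type*} [Field k] {V : Type*} [AddCommGroup V] [Module k V]

/-- Fixed by `U`. -/
def Fixed (A : Tits.Ambient G W) (ρ : G →* Module.End k V) (m : V) : Prop :=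
  ∀ u ∈ A.U, ρ u m = m

/-- The sum over the right cosets of `U` in the cell of `y`. -/
noncomputable def hecke (A : Tits.Ambient G W) (ρ : G →* Module.End k V) (y : W) :
    Module.End k V :=
  ∑ v : ↥(A.Uw y), ρ (A.n y * (v : G))⁻¹

variable {ρ : G →* Module.End k V}

theorem hecke_apply (y : W) (m : V) :
    hecke A ρ y m = ∑ v : ↥(A.Uw y), ρ (A.n y * (v : G))⁻¹ m := by
  simp [hecke, LinearMap.sum_apply]

theorem rho_mul (a b : G) (m : V) : ρ (a * b) m = ρ a (ρ b m) := by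
  rw [map_mul]; rfl

theorem rho_inj (a : G) {m : V} (h : ρ a m = 0) : m = 0 := by
  have := congrArg (ρ a⁻¹) h
  rwa [← rho_mul, inv_mul_cancel, map_one, map_zero] at this

/-- The value of a fixed vector on a coset does not depend on the representative. -/
theorem coset_eq {m : V} (hm : Fixed A ρ m) {u : G} (hu : u ∈ A.U) (g : G) :
    ρ (u * g)⁻¹ m = ρ g⁻¹ m := by
  rw [mul_inv_rev, rho_mul, hm _ (inv_mem hu)]

theorem fixed_H {m : V} (hm : Fixed A ρ m) {h : G} (hh : h ∈ A.H) : Fixed A ρ (ρ h m) := by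
  intro u hu
  rw [← rho_mul, show u * h = h * (h⁻¹ * u * h⁻¹⁻¹) by group, rho_mul,
    hm _ (A.H_conj_U _ (inv_mem hh) u hu)]

theorem hecke_one (m : V) : hecke A ρ 1 m = m := by
  rw [hecke_apply, Fintype.sum_eq_single (1 : ↥(A.Uw (1 : W)))]
  · simp [A.n_one]
  · intro v hv
    exact absurd (Subtype.ext (Subgroup.mem_bot.1 (A.Uw_one ▸ v.2))) hv

variable (hA : Hyp A p) [hp : Fact p.Prime]
include hA

theorem proj_unique {y : W} {r r' : G} (hr : r ∈ rad A y) (hr' : r' ∈ rad A y) {v v' : G}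
    (hv : v ∈ A.Uw y) (hv' : v' ∈ A.Uw y) (e : r * v = r' * v') : v = v' :=
  (nf_unique hr.2 hr'.2 (one_mem A.H) (one_mem A.H) hv hv'
    (show A.n y * r * (A.n y)⁻¹ * 1 * A.n y * v = A.n y * r' * (A.n y)⁻¹ * 1 * A.n y * v' by
      simp only [mul_one, mul_assoc, inv_mul_cancel_left, e])).2.2.2

theorem coset_rad {m : V} (hm : Fixed A ρ m) {y : W} {r : G} (hr : r ∈ rad A y) (v : G) :
    ρ (A.n y * (r * v))⁻¹ m = ρ (A.n y * v)⁻¹ m := by
  rw [show A.n y * (r * v) = (A.n y * r * (A.n y)⁻¹) * (A.n y * v) by group,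
    coset_eq hm (u := A.n y * r * (A.n y)⁻¹) hr.2]

theorem fixed_hecke {m : V} (hm : Fixed A ρ m) (y : W) : Fixed A ρ (hecke A ρ y m) := by
  intro u hu
  have hex : ∀ v : ↥(A.Uw y), ∃ z : ↥(A.Uw y), ∃ r ∈ rad A y, (v : G) * u⁻¹ = r * z := fun v => by
    obtain ⟨r, hr, z, hz, e⟩ := hA.exists_rad_mul y (mul_mem (A.Uw_le y v.2) (inv_mem hu))
    exact ⟨⟨z, hz⟩, r, hr, e⟩
  choose φ r hr hφ using hex
  have hinj : Function.Injective φ := fun v v' e => by
    refine Subtype.ext (proj_unique hA (one_mem _) (mul_mem (hr v) (inv_mem (hr v'))) v.2 v'.2 ?_)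
    have e' : (v' : G) = r v' * φ v' * u := by rw [← hφ]; group
    rw [one_mul, show (v : G) = r v * φ v * u by rw [← hφ]; group, e', e]; group
  simp only [hecke_apply, map_sum]
  refine Fintype.sum_bijective φ (Finite.injective_iff_bijective.1 hinj) _ _ fun v => ?_
  rw [← rho_mul, ← coset_rad hA hm (hr v) (φ v : G), ← hφ v]
  congr 2
  group

theorem hecke_H {m : V} (hm : Fixed A ρ m) (y : W) {h : G} (hh : h ∈ A.H) :
    hecke A ρ y (ρ h m) = ρ ((A.n y)⁻¹ * h * A.n y) (hecke A ρ y m) := by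
  set g := (A.n y)⁻¹ * h * A.n y
  have hg : g⁻¹ ∈ A.H := inv_mem (A.n_conj_H' y hh)
  have hex : ∀ v : ↥(A.Uw y), ∃ z : ↥(A.Uw y), ∃ r ∈ rad A y, g⁻¹ * (v : G) * g⁻¹⁻¹ = r * z :=
    fun v => by
      obtain ⟨r, hr, z, hz, e⟩ := hA.exists_rad_mul y (A.H_conj_U _ hg _ (A.Uw_le y v.2))
      exact ⟨⟨z, hz⟩, r, hr, e⟩
  choose φ r hr hφ using hex
  have hinj : Function.Injective φ := fun v v' e => by
    have h1 : g * (r v * (r v')⁻¹) * g⁻¹ ∈ rad A y :=
      hA.rad_conj_H y (A.n_conj_H' y hh) (mul_mem (hr v) (inv_mem (hr v')))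
    refine Subtype.ext (proj_unique hA (one_mem _) h1 v.2 v'.2 ?_)
    rw [one_mul, show (v : G) = g * (r v * φ v) * g⁻¹ by rw [← hφ]; group,
      show (v' : G) = g * (r v' * φ v') * g⁻¹ by rw [← hφ]; group, e]; group
  simp only [hecke_apply, map_sum]
  refine Fintype.sum_bijective φ (Finite.injective_iff_bijective.1 hinj) _ _ fun v => ?_
  rw [← coset_rad hA hm (hr v) (φ v : G), ← hφ v, ← rho_mul, ← rho_mul]
  congr 2
  simp only [g]
  group

theorem hecke_add {b a : W} (h : Adds A b a) {m : V} (hm : Fixed A ρ m) :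
    hecke A ρ a (hecke A ρ b m) =
      hecke A ρ (b * a) (ρ (A.n b * A.n a * (A.n (b * a))⁻¹)⁻¹ m) := by
  obtain ⟨k₀, hk₀, e₀⟩ := A.n_mul b a
  rw [show A.n b * A.n a * (A.n (b * a))⁻¹ = k₀ by rw [e₀]; group]
  obtain ⟨φ, hφ, hu⟩ := exists_pairs hA h hk₀ e₀
  simp only [hecke_apply, map_sum]
  refine (Fintype.sum_prod_type'
    (fun (x : ↥(A.Uw b)) (y : ↥(A.Uw a)) =>
      ρ (A.n a * (y : G))⁻¹ (ρ (A.n b * (x : G))⁻¹ m))).symm.trans
    (Fintype.sum_bijective φ hφ _ _ fun q => ?_)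
  obtain ⟨u, hu', e⟩ := hu q
  rw [← rho_mul, ← mul_inv_rev, ← mul_assoc, e,
    show u * k₀ * A.n (b * a) * (φ q : G) = u * (k₀ * A.n (b * a) * φ q) by group,
    coset_eq hm hu', ← rho_mul]
  congr 2
  group

/-- Peel off a fundamental element on the left. -/
theorem hecke_peel {s : W} (hs : s ∈ A.S) {y : W} (h : ell A (s * y) + 1 = ell A y) :
    ∃ k₀ ∈ A.H, ∀ m, Fixed A ρ m → hecke A ρ y m = hecke A ρ (s * y) (hecke A ρ s (ρ k₀ m)) := by
  obtain ⟨k₀, hk₀, e₀⟩ := A.n_mul s (s * y)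
  refine ⟨k₀, hk₀, fun m hm => ?_⟩
  have hy : s * (s * y) = y := by rw [← mul_assoc, A.sq_S s hs, one_mul]
  rw [hecke_add hA (adds_descent hA hs h) (fixed_H hm hk₀), ← rho_mul,
    show A.n s * A.n (s * y) * (A.n (s * (s * y)))⁻¹ = k₀ by rw [e₀]; group, inv_mul_cancel,
    map_one, hy]
  rfl

variable [CharP k p]

theorem card_Uw_cast {s : W} (hs : s ≠ 1) : (Nat.card (A.Uw s) : k) = 0 := by
  obtain ⟨j, hj⟩ := IsPGroup.iff_card.1 (hA.pU.to_le (A.Uw_le s))
  have := one_lt_card_Uw A hs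
  rw [CharP.cast_eq_zero_iff k p, hj]
  exact dvd_pow_self p fun e => by rw [hj, e, pow_zero] at this; omega

theorem hecke_sq {s : W} (hs : s ∈ A.S) {m : V} (hm : Fixed A ρ m) :
    hecke A ρ s (hecke A ρ s m) ∈
      Submodule.span k ((fun h => ρ h (hecke A ρ s m)) '' (A.H : Set G)) := by
  have e0 : hecke A ρ s (hecke A ρ s m) = ∑ x : ↥(A.Uw s), ∑ y : ↥(A.Uw s),
      ρ (A.n s * (y : G))⁻¹ (ρ (A.n s * (x : G))⁻¹ m) := by
    simp only [hecke_apply, map_sum]
  rw [e0]
  refine Submodule.sum_mem _ fun x _ => ?_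
  simp only [← rho_mul, ← mul_inv_rev]
  by_cases hx : (x : G) = 1
  · have hsq : A.n s * A.n s ∈ A.H := by
      obtain ⟨l, hl, el⟩ := A.n_mul s s
      rw [A.sq_S s hs, A.n_one, mul_one] at el
      rwa [el]
    have : ∀ y : ↥(A.Uw s), ρ (A.n s * (x : G) * (A.n s * (y : G)))⁻¹ m =
        ρ (A.n s * A.n s)⁻¹ m := fun y => by
      rw [hx, mul_one, ← mul_assoc, mul_inv_rev, rho_mul,
        fixed_H hm (inv_mem hsq) _ (inv_mem (A.Uw_le s y.2))]
    rw [Finset.sum_congr rfl fun y _ => this y, Finset.sum_const, Finset.card_univ,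
      ← Nat.card_eq_fintype_card, ← Nat.cast_smul_eq_nsmul k, card_Uw_cast hA (S_ne_one A hs),
      zero_smul]
    exact zero_mem _
  · have hc : A.n s * (x : G) * A.n s ∈ cell A s := by
      rcases axiom_left (P := A.pair) (nS_mem A hs) (n_mem A s) (A.U_le_B (A.Uw_le s x.2))
        with hc | hc
      · exfalso
        rw [dc_of_mem_B (A.pair.sq_mem _ (nS_mem A hs)), mem_dc_one] at hc
        have h1 : A.n s * (x : G) * (A.n s)⁻¹ ∈ A.B := by
          rw [show A.n s * (x : G) * (A.n s)⁻¹ = A.n s * x * A.n s * (A.n s * A.n s)⁻¹ by group]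
          exact mul_mem hc (inv_mem (A.pair.sq_mem _ (nS_mem A hs)))
        have h2 : (x : G) ∈ rad A s :=
          (mem_rad A).2 ⟨A.Uw_le s x.2, hA.conj_mem_U (A.Uw_le s x.2) h1⟩
        exact hx (proj_unique hA h2 (one_mem _) (one_mem _) x.2
          (by rw [mul_one, one_mul])).symm
      · exact hc
    obtain ⟨u, hu, h, hh, v, hv, e⟩ := cell_nf A hc
    have : ∑ y : ↥(A.Uw s), ρ (A.n s * (x : G) * (A.n s * (y : G)))⁻¹ m =
        hecke A ρ s (ρ h⁻¹ m) := by
      rw [hecke_apply]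
      refine Fintype.sum_equiv (Equiv.mulLeft (⟨v, hv⟩ : ↥(A.Uw s))) _ _ fun y => ?_
      rw [show A.n s * (x : G) * (A.n s * (y : G)) = u * (h * (A.n s * (v * y))) by
        rw [← mul_assoc, e]; group, coset_eq hm hu, ← rho_mul]
      congr 2
      simp [mul_assoc]
    rw [this, hecke_H hA hm s (inv_mem hh)]
    exact Submodule.subset_span ⟨_, A.n_conj_H' s (inv_mem hh), rfl⟩

/-- If all the operators are injective on fixed vectors then the module is free over `U`. -/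
theorem card_dvd_of_injective [FiniteDimensional k V]
    (h : ∀ s ∈ A.S, ∀ m, Fixed A ρ m → hecke A ρ s m = 0 → m = 0) :
    Nat.card A.U ∣ finrank k V := by
  have hall : ∀ y : W, ∀ m, Fixed A ρ m → hecke A ρ y m = 0 → m = 0 := by
    intro y
    induction hn : ell A y using Nat.strong_induction_on generalizing y with
    | _ n ih =>
    subst hn
    intro m hm h0
    by_cases hy : y = 1
    · rwa [hy, hecke_one] at h0
    obtain ⟨s, hs, e⟩ := exists_left_descent A hy
    obtain ⟨k₀, hk₀, hpeel⟩ := hecke_peel (ρ := ρ) hA hs e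
    rw [hpeel m hm] at h0
    exact rho_inj k₀ (h s hs _ (fixed_H hm hk₀)
      (ih (ell A (s * y)) (by omega) _ rfl _ (fixed_hecke hA (fixed_H hm hk₀) s) h0))
  obtain ⟨w₀, hw₀⟩ := hA.full
  let X : Submodule k V :=
    { carrier := {v | Fixed A ρ v}
      add_mem' := fun hv hw a ha => by rw [map_add, hv a ha, hw a ha]
      zero_mem' := fun a _ => map_zero _
      smul_mem' := fun t v hv a ha => by rw [map_smul, hv a ha] }
  let T : X →ₗ[k] X := (hecke A ρ w₀).restrict fun v hv => fixed_hecke hA hv w₀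
  have hT : Function.Surjective T := by
    refine LinearMap.injective_iff_surjective.1 ((injective_iff_map_eq_zero T).2 fun a ha => ?_)
    exact Subtype.ext (hall w₀ a.1 a.2 (congrArg Subtype.val ha))
  refine card_dvd_finrank hA.pU (ρ.comp A.U.subtype) fun v hv => ?_
  obtain ⟨⟨m, hm⟩, e⟩ := hT ⟨v, fun u hu => hv ⟨u, hu⟩⟩
  refine ⟨ρ (A.n w₀)⁻¹ m, (congrArg Subtype.val e).symm.trans ?_⟩
  show hecke A ρ w₀ m = _
  rw [hecke_apply]
  let φ : ↥(A.Uw w₀) ≃ ↥A.U := (Equiv.setCongr (by rw [hw₀])).trans (Equiv.inv _)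
  refine Fintype.sum_equiv φ _ _ fun u => ?_
  rw [mul_inv_rev, rho_mul]
  rfl

/-- The count of a class in a coset of `U` outside `U` inside a proper parabolic subgroup is
divisible by `p`. -/
theorem count_zero (hs : IsSimpleGroup G) {D : Set W} (hD : D ⊆ A.S) (hne : D ≠ A.S) {y : W}
    (hy : y ∈ Subgroup.closure D) {h : G} (hh : h ∈ A.H) (hyh : y ≠ 1 ∨ h ≠ 1) {C : Set G}
    (hC : ∀ x g, g ∈ C → x * g * x⁻¹ ∈ C) :
    (Nat.card {u : ↥A.U // (u : G) * h * A.n y ∈ C} : k) = 0 := by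
  obtain ⟨c, hc⟩ := hA.exists_isTop hD
  set z := h * A.n y with hz
  have hzP : z ∈ A.pair.parabolic (A.n '' D) := exists_n_mem hA hy hh
  set X : Set G := {g | g ∈ C ∧ g * z⁻¹ ∈ A.U} with hX
  have e : {u : ↥A.U // (u : G) * h * A.n y ∈ C} ≃ X :=
    { toFun := fun u => ⟨u.1 * z, by rw [hz, ← mul_assoc]; exact u.2, by simp⟩
      invFun := fun g => ⟨⟨g.1 * z⁻¹, g.2.2⟩, by
        show g.1 * z⁻¹ * h * A.n y ∈ C
        rw [mul_assoc _ h, ← hz, inv_mul_cancel_right]
        exact g.2.1⟩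
      left_inv := fun u => Subtype.ext (Subtype.ext (by simp))
      right_inv := fun g => Subtype.ext (by simp) }
  rw [Nat.card_congr e]
  have hstab : ∀ r ∈ rad A c, ∀ g ∈ X, r * g * r⁻¹ ∈ X := by
    intro r hr g hg
    refine ⟨hC r g hg.1, ?_⟩
    rw [show r * g * r⁻¹ * z⁻¹ = r * (g * z⁻¹) * (z * r⁻¹ * z⁻¹) by group]
    exact mul_mem (mul_mem hr.1 hg.2) (hA.rad_normal hD hc hzP (inv_mem hr)).1
  letI : MulAction ↥(rad A c) X :=
    { smul := fun r g => ⟨r.1 * g.1 * r.1⁻¹, hstab r r.2 g g.2⟩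
      one_smul := fun g => Subtype.ext (by show (1 : G) * g.1 * 1⁻¹ = g.1; simp)
      mul_smul := fun a b g => Subtype.ext (by
        show (a.1 * b.1) * g.1 * (a.1 * b.1)⁻¹ = a.1 * (b.1 * g.1 * b.1⁻¹) * a.1⁻¹
        group) }
  have h1 := (hA.pU.to_le (show rad A c ≤ A.U from inf_le_left)).card_modEq_card_fixedPoints X
  have h2 : IsEmpty (MulAction.fixedPoints ↥(rad A c) X) := by
    refine ⟨fun g => ?_⟩
    have hg : ∀ d ∈ rad A c, g.1.1 * d = d * g.1.1 := fun d hd => by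
      have h3 : d * g.1.1 * d⁻¹ = g.1.1 := congrArg Subtype.val (g.2 ⟨d, hd⟩)
      calc g.1.1 * d = d * g.1.1 * d⁻¹ * d := by rw [h3]
        _ = d * g.1.1 := by group
    have hgP : g.1.1 ∈ A.pair.parabolic (A.n '' D) := by
      rw [show g.1.1 = g.1.1 * z⁻¹ * z by group]
      exact mul_mem (Subgroup.mem_sup_left (A.U_le_B g.1.2.2)) hzP
    have hgU := centraliser_le hA hs hD hne hc hgP hg
    obtain ⟨rfl, -, rfl, -⟩ := nf_unique (u := 1) (v := 1) (u' := (g.1.1 * z⁻¹)⁻¹ * g.1.1) (w' := 1)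
      (v' := 1) (one_mem _) (mul_mem (inv_mem g.1.2.2) hgU) hh (one_mem _) (one_mem _) (one_mem _)
      (show 1 * h * A.n y * 1 = (g.1.1 * z⁻¹)⁻¹ * g.1.1 * 1 * A.n 1 * 1 by
        rw [A.n_one, hz]; group)
    rcases hyh with h' | h' <;> exact h' rfl
  rw [Nat.card_of_isEmpty (α := MulAction.fixedPoints ↥(rad A c) X)] at h1
  exact (CharP.cast_eq_zero_iff k p _).2 (Nat.modEq_zero_iff_dvd.1 h1)

/-- The dichotomy for a module in characteristic `p`. -/
theorem dichotomy (hs : IsSimpleGroup G) [FiniteDimensional k V] :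
    Nat.card A.U ∣ finrank k V ∨ ∃ m : V, m ≠ 0 ∧ ∀ C : Finset G,
      (∀ x g, g ∈ C → x * g * x⁻¹ ∈ C) →
        ∑ g ∈ C, ρ g⁻¹ m = (Nat.card {u : ↥A.U // (u : G) ∈ C} : k) • m := by
  classical
  refine or_iff_not_imp_left.2 fun hnd => ?_
  obtain ⟨s₀, hs₀, v₀, hv₀, hkill, hv₀0⟩ :
      ∃ s ∈ A.S, ∃ m, Fixed A ρ m ∧ hecke A ρ s m = 0 ∧ m ≠ 0 := by
    by_contra hcon
    push Not at hcon
    exact hnd (card_dvd_of_injective hA hcon)
  obtain ⟨w₀, hw₀⟩ := hA.full
  let E : Finset W := Finset.univ.filter fun y => ∃ h ∈ A.H, hecke A ρ y (ρ h v₀) ≠ 0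
  have hE : E.Nonempty := ⟨1, Finset.mem_filter.2 ⟨Finset.mem_univ _, 1, one_mem _, by
    rw [hecke_one, map_one]; exact hv₀0⟩⟩
  obtain ⟨w, hwE, hmax⟩ := E.exists_max_image (ell A) hE
  obtain ⟨h, hh, hne⟩ := (Finset.mem_filter.1 hwE).2
  have hzero : ∀ y, ell A w < ell A y → ∀ h' ∈ A.H, hecke A ρ y (ρ h' v₀) = 0 := by
    intro y hy h' hh'
    by_contra h0
    exact absurd (hmax y (Finset.mem_filter.2 ⟨Finset.mem_univ _, h', hh', h0⟩)) (by omega)
  have hw : w ≠ w₀ := by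
    rintro rfl
    obtain ⟨k₀, hk₀, hpeel⟩ := hecke_peel (ρ := ρ) hA hs₀ (descent_of_full A hw₀ hs₀).2
    refine hne ?_
    rw [hpeel _ (fixed_H hv₀ hh), ← rho_mul, hecke_H hA hv₀ s₀ (mul_mem hk₀ hh), hkill, map_zero,
      map_zero]
  set m := hecke A ρ w (ρ h v₀) with hm
  have hmf : Fixed A ρ m := fixed_hecke hA (fixed_H hv₀ hh) w
  set D : Set W := {s ∈ A.S | hecke A ρ s m ≠ 0} with hDdef
  have hDS : D ⊆ A.S := fun s hs => hs.1
  have hasc : ∀ s ∈ A.S, ell A (w * s) = ell A w + 1 → hecke A ρ s m = 0 := by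
    intro s hsS e
    rw [hm, hecke_add hA (adds_right hA hsS e) (fixed_H hv₀ hh), ← rho_mul]
    obtain ⟨k₀, hk₀, ek⟩ := A.n_mul w s
    refine hzero _ (by omega) _ (mul_mem (inv_mem ?_) hh)
    rw [ek, mul_inv_cancel_right]
    exact hk₀
  have hDne : D ≠ A.S := by
    intro e
    obtain ⟨s, hsS, es⟩ := exists_ascent hA hw₀ hw
    exact (show s ∈ D by rw [e]; exact hsS).2 (hasc s hsS es)
  set L := Submodule.span k ((fun h => ρ h m) '' (A.H : Set G)) with hL
  have hLmem : ∀ s ∈ D, hecke A ρ s m ∈ L := by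
    intro s hsD
    have hsS := hDS hsD
    have hdesc : ell A (w * s) + 1 = ell A w :=
      (ell_cases' A hsS w).resolve_left fun e => hsD.2 (hasc s hsS e)
    obtain ⟨k₀, hk₀, ek⟩ := A.n_mul (w * s) s
    have hws : w * s * s = w := by rw [mul_assoc, A.sq_S s hsS, mul_one]
    rw [hws] at ek
    have hadd : Adds A (w * s) s := adds_right hA hsS (by rw [hws]; omega)
    have hf := fixed_H hv₀ (mul_mem hk₀ hh)
    have e1 : hecke A ρ s (hecke A ρ (w * s) (ρ (k₀ * h) v₀)) = m := by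
      rw [hecke_add hA hadd hf, hws, ← rho_mul,
        show (A.n (w * s) * A.n s * (A.n w)⁻¹)⁻¹ * (k₀ * h) = h by rw [ek]; group]
    have h2 := hecke_sq hA hsS (fixed_hecke hA hf (w * s))
    rwa [e1] at h2
  have hLH : ∀ h' ∈ A.H, ∀ x ∈ L, ρ h' x ∈ L := by
    intro h' hh' x hx
    induction hx using Submodule.span_induction with
    | mem x hx =>
      obtain ⟨h'', hh'', rfl⟩ := hx
      exact Submodule.subset_span ⟨h' * h'', mul_mem hh' hh'', rho_mul _ _ _⟩
    | zero => rw [map_zero]; exact zero_mem _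
    | add x y _ _ hx hy => rw [map_add]; exact add_mem hx hy
    | smul t x _ hx => rw [map_smul]; exact Submodule.smul_mem _ t hx
  have hkillL : ∀ y, y ∉ Subgroup.closure D → ∀ x ∈ L, hecke A ρ y x = 0 := by
    intro y
    induction hn : ell A y using Nat.strong_induction_on generalizing y with
    | _ n ih =>
    subst hn
    intro hy x hx
    induction hx using Submodule.span_induction with
    | zero => exact map_zero _
    | add x y _ _ hx hy => rw [map_add, hx, hy, add_zero]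
    | smul t x _ hx => rw [map_smul, hx, smul_zero]
    | mem x hx =>
      obtain ⟨h', hh', rfl⟩ := hx
      obtain ⟨s, hsS, e⟩ := exists_left_descent A (w := y) (fun e1 => hy (by rw [e1]; exact one_mem _))
      obtain ⟨k₀, hk₀, hpeel⟩ := hecke_peel (ρ := ρ) hA hsS e
      show hecke A ρ y (ρ h' m) = 0
      rw [hpeel _ (fixed_H hmf hh'), ← rho_mul, hecke_H hA hmf s (mul_mem hk₀ hh')]
      by_cases hsD : s ∈ D
      · refine ih (ell A (s * y)) (by omega) _ rfl (fun hc => hy ?_) _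
          (hLH _ (A.n_conj_H' s (mul_mem hk₀ hh')) _ (hLmem s hsD))
        have := mul_mem (Subgroup.subset_closure hsD) hc
        rwa [← mul_assoc, A.sq_S s hsS, one_mul] at this
      · rw [show hecke A ρ s m = 0 by by_contra h0; exact hsD ⟨hsS, h0⟩, map_zero, map_zero]
  refine ⟨m, hne, fun C hC => ?_⟩
  let f : (Σ w : W, ↥(A.Uw w) × ↥A.H × ↥A.U) → G :=
    fun q => (q.2.2.2 : G) * q.2.2.1 * A.n q.1 * q.2.1
  have hfb : Function.Bijective f := by
    refine ⟨?_, fun g => ?_⟩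
    · rintro ⟨a, v, l, u⟩ ⟨a', v', l', u'⟩ e
      obtain ⟨rfl, e1, e2, e3⟩ := nf_unique u.2 u'.2 l.2 l'.2 v.2 v'.2 e
      obtain rfl := Subtype.ext e1
      obtain rfl := Subtype.ext e2
      obtain rfl := Subtype.ext e3
      rfl
    · obtain ⟨u, hu, l, hl, a, v, hv, e⟩ := A.exists_eq g
      exact ⟨⟨a, ⟨v, hv⟩, ⟨l, hl⟩, ⟨u, hu⟩⟩, e.symm⟩
  have hexp : ∑ g ∈ C, ρ g⁻¹ m = ∑ a : W, ∑ l : ↥A.H,
      (Nat.card {u : ↥A.U // (u : G) * l * A.n a ∈ C} : k) • hecke A ρ a (ρ (l : G)⁻¹ m) := by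
    rw [show ∑ g ∈ C, ρ g⁻¹ m = ∑ g : G, if g ∈ C then ρ g⁻¹ m else 0 by simp,
      ← Fintype.sum_bijective f hfb _ (fun g : G => if g ∈ C then ρ g⁻¹ m else 0)
      fun _ => rfl, Fintype.sum_sigma]
    refine Fintype.sum_congr _ _ fun a => ?_
    simp only [hecke_apply, Finset.smul_sum]
    rw [Fintype.sum_prod_type, Finset.sum_comm (s := (Finset.univ : Finset ↥A.H))]
    refine Finset.sum_congr (by ext; simp) fun v _ => ?_
    rw [Fintype.sum_prod_type]
    refine Finset.sum_congr (by ext; simp) fun l _ => ?_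
    have hcnt : Nat.card {u : ↥A.U // (u : G) * l * A.n a ∈ C} =
        Nat.card {u : ↥A.U // (u : G) * l * A.n a * v ∈ C} := by
      refine (Nat.card_congr (Equiv.subtypeEquiv
        (Equiv.mulLeft (⟨v, A.Uw_le a v.2⟩ : ↥A.U)) fun u => ⟨fun hu => ?_, fun hu => ?_⟩)).symm
      · have := hC (v : G) _ hu
        simp only [Equiv.coe_mulLeft, Subgroup.coe_mul]
        convert this using 1
        group
      · have := hC (v : G)⁻¹ _ hu
        simp only [Equiv.coe_mulLeft, Subgroup.coe_mul] at this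
        convert this using 1
        group
    rw [hcnt, Nat.card_eq_fintype_card, Fintype.card_subtype, Nat.cast_smul_eq_nsmul,
      ← Finset.sum_const, Finset.sum_filter]
    refine Fintype.sum_congr _ _ fun u => ?_
    simp only [f]
    split
    · rw [← rho_mul, show (u : G) * l * A.n a * v = u * ((l : G) * (A.n a * v)) by group,
        coset_eq hmf u.2, mul_inv_rev]
    · rfl
  rw [hexp, Fintype.sum_eq_single (1 : W), Fintype.sum_eq_single (1 : ↥A.H)]
  · simp [A.n_one, hecke_one]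
  · intro l hl
    rw [count_zero (k := k) hA hs hDS hDne (one_mem _) l.2 (Or.inr fun e => hl (Subtype.ext e))
      (C := (C : Set G)) hC |> fun e => show (Nat.card {u : ↥A.U // (u : G) * l * A.n 1 ∈ C} : k) = 0
        from e, zero_smul]
  · intro a ha
    refine Finset.sum_eq_zero fun l _ => ?_
    by_cases hc : a ∈ Subgroup.closure D
    · rw [count_zero (k := k) hA hs hDS hDne hc l.2 (Or.inl ha) (C := (C : Set G)) hC |>
        fun e => show (Nat.card {u : ↥A.U // (u : G) * l * A.n a ∈ C} : k) = 0 from e, zero_smul]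
    · rw [hkillL a hc _ (Submodule.subset_span ⟨(l : G)⁻¹, inv_mem l.2, rfl⟩), smul_zero]

end Cfsg.Agent.H83.DefChar
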