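import Cfsg.Agent.BlockBasic.Basic
import Cfsg.Agent.CharBasic.Integral
import Cfsg.Agent.H54.CentralBlocks
import Cfsg.Agent.H81.ValuationLattice
import Cfsg.Agent.H83.DefChar.Hecke

/-!
A simple group with a split Tits system in characteristic `p` has only blocks of defect zero and of
full defect.
-/

set_option autoImplicit false
set_option linter.unusedSectionVars false
set_option linter.style.haveILetI false

namespace Cfsg.Agent.H83.DefChar

open Cfsg.Agent.H37 (Tits.Ambient)
open Cfsg.Agent.H13.Split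
open Cfsg.Agent.BlockBasic Cfsg.Agent.CharBasic
open Module Matrix

universe u

variable {G : Type u} [Group G] [Finite G] {p : ℕ} [hp : Fact p.Prime] {M : Ideal AlgInt}

/-- A valuation ring of `ℂ` over the local ring at `M`, separating its maximal ideal. -/
theorem exists_valuation_over (hM : IsPModular p M) :
    ∃ V : ValuationSubring ℂ, (∀ z, MemLocalRing M z → z ∈ V) ∧ V.valuation (p : ℂ) < 1 ∧
      ∀ z, MemLocalRing M z → V.valuation z < 1 → MemLocalIdeal M z := by
  obtain ⟨V, hle, hsub⟩ :=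
    Ideal.image_subset_nonunits_valuationSubring (locMax hM) (locMax_isMaximal hM).ne_top
  refine ⟨V, fun z hz => hle (mem_locRing.2 hz), ?_, fun z hz hlt => ?_⟩
  · exact V.mem_nonunits_iff.1 (hsub ⟨_, natCast_p_mem_locMax hM, by simp⟩)
  · by_contra hni
    have hinv : z⁻¹ ∈ V := hle (mem_locRing.2 (memLocalRing_inv hM hz hni))
    have hne : z ≠ 0 := fun e => hni (e ▸ memLocalIdeal_zero hM)
    have h1 := (V.valuation_le_one_iff _).2 hinv
    rw [map_inv₀, inv_le_one₀ (zero_lt_iff.2 (by simpa using hne))] at h1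
    exact absurd hlt (not_lt.2 h1)

/-- The operator of a class sum in an irreducible representation. -/
theorem classSum_apply [Fintype G] {n : ℕ} (ρ : Representation ℂ G (Fin n → ℂ))
    [ρ.IsIrreducible] (g : G) (C : Finset G) (hC : ∀ x, x ∈ C ↔ IsConj g⁻¹ x) :
    ∑ x ∈ C, ρ x⁻¹ = centralChar ρ.character g • LinearMap.id := by
  classical
  let c : G → ℂ := fun x => if IsConj g x then 1 else 0
  have hc : Cfsg.IsClassFunction G c := fun x y => by
    have : IsConj g (y * x * y⁻¹) ↔ IsConj g x :=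
      ⟨fun h => h.trans (isConj_iff.2 ⟨y, rfl⟩).symm, fun h => h.trans (isConj_iff.2 ⟨y, rfl⟩)⟩
    simp only [c, this]
  obtain ⟨ω, hω⟩ := schur_scalar ρ (repSum c ρ) (repSum_comm hc ρ)
  have hsum : ∑ x ∈ C, ρ x⁻¹ = repSum c ρ := by
    have h1 : repSum c ρ = ∑ x ∈ Finset.univ.filter (IsConj g), ρ x := by
      simp only [repSum, c, ite_smul, one_smul, zero_smul, ← Finset.sum_filter]
    rw [h1]
    refine Finset.sum_bij' (fun x _ => x⁻¹) (fun x _ => x⁻¹) (fun x hx => ?_) (fun x hx => ?_)
      (fun x _ => inv_inv x) (fun x _ => inv_inv x) (fun x _ => rfl)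
    · obtain ⟨y, hy⟩ := isConj_iff.1 ((hC x).1 hx)
      exact Finset.mem_filter.2 ⟨Finset.mem_univ _, isConj_iff.2 ⟨y, by rw [← hy]; group⟩⟩
    · obtain ⟨y, hy⟩ := isConj_iff.1 (Finset.mem_filter.1 hx).2
      exact (hC _).2 (isConj_iff.2 ⟨y, by rw [← hy]; group⟩)
  have htr := congrArg (LinearMap.trace ℂ _) hω
  rw [trace_repSum, map_smul, LinearMap.trace_id, smul_eq_mul] at htr
  have hval : ∑ x : G, c x * ρ.character x =
      ((Subgroup.centralizer ({g} : Set G)).index : ℂ) * ρ.character g := by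
    rw [← card_conjugates_eq_index g, Nat.card_eq_fintype_card, Fintype.card_subtype,
      ← nsmul_eq_mul, ← Finset.sum_const, Finset.sum_filter]
    refine Finset.sum_congr rfl fun x _ => ?_
    by_cases hx : IsConj g x
    · obtain ⟨y, rfl⟩ := isConj_iff.1 hx
      simp only [c, if_pos hx, one_mul]
      rw [Representation.char_conj]
    · simp only [c, if_neg hx, zero_mul]
  have hn : (finrank ℂ (Fin n → ℂ) : ℂ) ≠ 0 := by
    exact_mod_cast (finrank_pos_of_isIrreducible ρ).ne'
  rw [hsum, hω, centralChar, ← hval, htr, Representation.char_one, mul_div_cancel_right₀ _ hn]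

variable {W : Type} [Group W] [Finite W] {A : Tits.Ambient G W} (hA : Hyp A p)
include hA

theorem memLocalIdeal_or_dvd (hs : IsSimpleGroup G) (hM : IsPModular p M) (χ : IrrCharacter G) :
    Nat.card A.U ∣ charDegree (χ : G → ℂ) ∨ ∀ g : G, MemLocalIdeal M
      (centralChar (χ : G → ℂ) g - (Nat.card {u : ↥A.U // IsConj g⁻¹ (u : G)} : ℂ)) := by
  classical
  cases nonempty_fintype G
  obtain ⟨V, hint, hpV, hideal⟩ := exists_valuation_over hM
  obtain ⟨n, ρ, hirr, hχ⟩ := χ.2
  haveI := hirr
  obtain ⟨φ, e, hφ⟩ := H81.exists_integral_form V ρ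
  have hdeg : charDegree (χ : G → ℂ) = n := by
    have h1 := apply_one_eq_charDegree χ
    rw [← hχ, Representation.char_one, finrank_fin_fun] at h1
    rw [← hχ]
    exact_mod_cast h1.symm
  have hres : ∀ x : V, IsLocalRing.residue V x = 0 ↔ V.valuation (x : ℂ) < 1 := fun x => by
    rw [← V.valuation_lt_one_iff, IsLocalRing.residue_eq_zero_iff]
  haveI : CharP (IsLocalRing.ResidueField V) p := by
    refine (CharP.charP_iff_prime_eq_zero hp.out).2 ?_
    rw [← map_natCast (IsLocalRing.residue V), hres]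
    simpa using hpV
  let σ : G →* Module.End (IsLocalRing.ResidueField V) (Fin n → IsLocalRing.ResidueField V) :=
    (Matrix.toLinAlgEquiv'.toAlgHom.toRingHom.comp
      (IsLocalRing.residue V).mapMatrix).toMonoidHom.comp φ
  rcases dichotomy (k := IsLocalRing.ResidueField V) (ρ := σ) hA hs with h | ⟨m, hm, hsum⟩
  · exact Or.inl (by rwa [Module.finrank_fin_fun, ← hdeg] at h)
  refine Or.inr fun g => ?_
  set C : Finset G := Finset.univ.filter fun x => IsConj g⁻¹ x with hCdef
  have hC : ∀ x, x ∈ C ↔ IsConj g⁻¹ x := fun x => by simp [C]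
  have hop := hsum C fun x y hy => (hC _).2 (((hC y).1 hy).trans (isConj_iff.2 ⟨x, rfl⟩))
  have hω : centralChar (χ : G → ℂ) g ∈ V := hint _ (by
    cases nonempty_fintype G
    exact memLocalRing_centralChar hM χ.2 g)
  set w : V := ⟨_, hω⟩ with hw
  have hmat : ∑ x ∈ C, φ x⁻¹ = w • (1 : Matrix (Fin n) (Fin n) V) := by
    have hinj : Function.Injective (V.subtype.mapMatrix : Matrix (Fin n) (Fin n) V →+* _) :=
      Matrix.map_injective Subtype.val_injective
    refine hinj (Matrix.ext_of_mulVec_single fun i => ?_)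
    obtain ⟨v, hv⟩ := e.surjective (Pi.single i 1)
    rw [← hv, map_sum, Matrix.sum_mulVec]
    have h1 : ∑ x ∈ C, (V.subtype.mapMatrix (φ x⁻¹)) *ᵥ e v = e ((∑ x ∈ C, ρ x⁻¹) v) := by
      rw [LinearMap.sum_apply, map_sum]
      exact Finset.sum_congr rfl fun x _ => hφ x⁻¹ v
    rw [h1, classSum_apply ρ g C hC, LinearMap.smul_apply, LinearMap.id_apply, map_smul, hχ]
    have h2 : (V.subtype.mapMatrix (w • (1 : Matrix (Fin n) (Fin n) V))) =
        (w : ℂ) • (1 : Matrix (Fin n) (Fin n) ℂ) := by
      ext a b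
      by_cases hab : a = b <;> simp [hab]
    rw [h2, Matrix.smul_mulVec, Matrix.one_mulVec]
  set T : Matrix (Fin n) (Fin n) V →+*
      Module.End (IsLocalRing.ResidueField V) (Fin n → IsLocalRing.ResidueField V) :=
    Matrix.toLinAlgEquiv'.toAlgHom.toRingHom.comp (IsLocalRing.residue V).mapMatrix with hT
  have hσ : ∀ x, σ x = T (φ x) := fun x => rfl
  have hop' : IsLocalRing.residue V w • m =
      (Nat.card {u : ↥A.U // (u : G) ∈ C} : IsLocalRing.ResidueField V) • m := by
    rw [← hop, ← LinearMap.sum_apply, Finset.sum_congr rfl fun x _ => hσ x⁻¹, ← map_sum, hmat]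
    have h3 : (IsLocalRing.residue V).mapMatrix (w • (1 : Matrix (Fin n) (Fin n) V)) =
        IsLocalRing.residue V w • (1 : Matrix (Fin n) (Fin n) (IsLocalRing.ResidueField V)) := by
      ext a b
      by_cases hab : a = b <;> simp [hab]
    simp [hT, h3]
  have hN : Nat.card {u : ↥A.U // (u : G) ∈ C} = Nat.card {u : ↥A.U // IsConj g⁻¹ (u : G)} :=
    Nat.card_congr (Equiv.subtypeEquivRight fun u => hC _)
  rw [hN, ← sub_eq_zero, ← sub_smul, smul_eq_zero, sub_eq_zero] at hop'
  have hop'' := hop'.resolve_right hm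
  rw [← map_natCast (IsLocalRing.residue V), ← sub_eq_zero, ← map_sub, hres] at hop''
  refine hideal _ ((locRing hM).sub_mem ?_ ?_) (by simpa [hw] using hop'')
  · exact mem_locRing.2 (memLocalRing_centralChar hM χ.2 g)
  · exact mem_locRing.2 (memLocalRing_natCast hM _)

/-- The blocks have defect zero or full defect. -/
theorem blockDefect_cases (hs : IsSimpleGroup G) (hM : IsPModular p M) {B : Set (IrrCharacter G)}
    (hB : IsPBlock M B) :
    blockDefect p B = 0 ∨ blockDefect p B = (Nat.card G).factorization p := by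
  obtain ⟨χ, hχ⟩ := isPBlock_nonempty hM hB
  have hU : Nat.card A.U = p ^ (Nat.card G).factorization p := by
    have := (hA.pU.toSylow hA.not_dvd_index).card_eq_multiplicity
    rwa [IsPGroup.toSylow_coe] at this
  rcases memLocalIdeal_or_dvd hA hs hM χ with h | h
  · refine Or.inl ?_
    rw [hU] at h
    have hnd : ¬ p ∣ Nat.card G / charDegree (χ : G → ℂ) := by
      intro hd
      obtain ⟨c, hc⟩ := h
      obtain ⟨q, hq⟩ := charDegree_dvd χ
      have e : Nat.card G / charDegree (χ : G → ℂ) = q := by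
        rw [hq, Nat.mul_div_cancel_left _ (charDegree_pos χ)]
      rw [e] at hd
      obtain ⟨r, rfl⟩ := hd
      refine Nat.pow_succ_factorization_not_dvd (Nat.card_pos (α := G)).ne' hp.out ⟨c * r, ?_⟩
      rw [pow_succ]
      conv_lhs => rw [hq, hc]
      ring
    rw [isPBlock_eq_blockOf hM hB hχ, (blockOf_eq_singleton_iff hM χ).2 hnd]
    exact (H54.CB.singleton_of_degree hM hnd).2
  · refine Or.inr ?_
    have ht : charDegree ((trivialIrr : IrrCharacter G) : G → ℂ) = 1 := by
      have h1 : (1 : ℂ) = (charDegree ((trivialIrr : IrrCharacter G) : G → ℂ) : ℂ) :=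
        apply_one_eq_charDegree (trivialIrr : IrrCharacter G)
      exact_mod_cast h1.symm
    have h1 : ∀ g : G, MemLocalIdeal M (centralChar ((trivialIrr : IrrCharacter G) : G → ℂ) g -
        (Nat.card {u : ↥A.U // IsConj g⁻¹ (u : G)} : ℂ)) := by
      refine (memLocalIdeal_or_dvd hA hs hM trivialIrr).resolve_left fun hd => ?_
      rw [ht, Nat.dvd_one, Subgroup.card_eq_one] at hd
      exact hA.U_ne_bot hd
    have hmem : (trivialIrr : IrrCharacter G) ∈ B := by
      rw [isPBlock_eq_blockOf hM hB hχ, mem_blockOf]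
      intro g
      simpa using memLocalIdeal_sub hM (h g) (h1 g)
    have h0 : sInf ((fun ψ : IrrCharacter G => (charDegree (ψ : G → ℂ)).factorization p) '' B) = 0 :=
      Nat.le_zero.1 (Nat.sInf_le ⟨trivialIrr, hmem, by simp [ht]⟩)
    rw [blockDefect, h0, Nat.sub_zero]

end Cfsg.Agent.H83.DefChar
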